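import Cfsg.Agent.H0.QFi23.D
set_option maxRecDepth 100000
set_option Elab.async false
namespace H0.QFi23
open H0 BN 
theorem c30 : allL (Tail.chkT C3 (nat_lit 35514) (nat_lit 8)) ((tests3.drop 164).take 21) = true := by decide +kernel
theorem c31 : allL (Tail.chkT C3 (nat_lit 35514) (nat_lit 8)) ((tests3.drop 185).take 26) = true := by decide +kernel
theorem c32 : allL (Tail.chkT C3 (nat_lit 35514) (nat_lit 8)) ((tests3.drop 211).take 3) = true := by decide +kernel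
theorem c33 : allL (Tail.rowChk C3 (nat_lit 35514) (nat_lit 8) (nat_lit 4) (tests3.map fun T => T.2.2.2) (FS3 ++ YS3.map fun Y => Y.1)) ((rows3.drop 0).take 91) = true := by decide +kernel
theorem c34 : Tail.finChk C3 (nat_lit 35514) (nat_lit 8) (nat_lit 4) (nat_lit 3) (C3.p ^ 1) av3 (tests3.map fun T => T.2.2.2) FS3 YS3 rows3 = true := by decide +kernel
theorem c35 : Model.fixP R [] [[61], [62]] = true := by decide +kernel
theorem c36 : Model.growP R [[61], [62]] [0, 1, 0, 1, 0, 1, 0, 1] 1 25 = true := by decide +kernel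
theorem c37 : rulesB R [2, 20380, 6320, 1, 0] (fun i => sh 61 (C5.L i)) (fun i => sh 61 (C5.R i)) 0 5 = true := by decide +kernel
theorem c38 : allL (Tail.chkT C5 (nat_lit 21) (nat_lit 24)) ((tests5.drop 0).take 4) = true := by decide +kernel
theorem c39 : allL (Tail.rowChk C5 (nat_lit 21) (nat_lit 24) (nat_lit 5) (tests5.map fun T => T.2.2.2) (FS5 ++ YS5.map fun Y => Y.1)) ((rows5.drop 0).take 3) = true := by decide +kernel
theorem c40 : Tail.finChk C5 (nat_lit 21) (nat_lit 24) (nat_lit 5) (nat_lit 5) (C5.p ^ 1) av5 (tests5.map fun T => T.2.2.2) FS5 YS5 rows5 = true := by decide +kernel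
theorem c41 : eqW R 0 5 [63] [12, 12, 12, 12, 13, 12, 13, 12, 13, 12, 12, 12, 13, 13, 13, 15, 14, 15, 15, 14, 15, 14, 15, 15, 15, 14, 14, 16, 16, 18, 17, 18, 18, 16, 16, 21, 21, 20, 20, 19] = true := by decide +kernel
theorem c42 : eqW R 5 5 [63] [12, 12, 12, 12, 13, 12, 13, 12, 13, 12, 12, 12, 13, 13, 13, 15, 14, 15, 15, 14, 15, 14, 15, 15, 15, 14, 14, 16, 16, 18, 17, 18, 18, 16, 16, 21, 21, 20, 20, 19] = true := by decide +kernel
theorem c43 : eqW R 10 5 [63] [12, 12, 12, 12, 13, 12, 13, 12, 13, 12, 12, 12, 13, 13, 13, 15, 14, 15, 15, 14, 15, 14, 15, 15, 15, 14, 14, 16, 16, 18, 17, 18, 18, 16, 16, 21, 21, 20, 20, 19] = true := by decide +kernel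
theorem c44 : eqW R 0 5 [62] [13, 13, 13, 13, 12, 13, 12, 12, 13, 12, 13, 12, 12, 12, 15, 15, 14, 15, 15, 14, 14, 15, 15, 14, 15, 14, 18, 16, 18, 18, 18, 17, 18, 17, 16, 21, 21, 19] = true := by decide +kernel
theorem c45 : eqW R 5 5 [62] [13, 13, 13, 13, 12, 13, 12, 12, 13, 12, 13, 12, 12, 12, 15, 15, 14, 15, 15, 14, 14, 15, 15, 14, 15, 14, 18, 16, 18, 18, 18, 17, 18, 17, 16, 21, 21, 19] = true := by decide +kernel
theorem c46 : eqW R 10 5 [62] [13, 13, 13, 13, 12, 13, 12, 12, 13, 12, 13, 12, 12, 12, 15, 15, 14, 15, 15, 14, 14, 15, 15, 14, 15, 14, 18, 16, 18, 18, 18, 17, 18, 17, 16, 21, 21, 19] = true := by decide +kernel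
theorem c47 : eqW R 0 5 [61] [12, 13, 13, 13, 12, 12, 13, 13, 12, 13, 13, 12, 12, 15, 14, 15, 14, 15, 14, 14, 14, 14, 15, 15, 14, 15, 18, 17, 18, 18, 17, 16, 17, 17, 17, 19, 19] = true := by decide +kernel
theorem c48 : eqW R 5 5 [61] [12, 13, 13, 13, 12, 12, 13, 13, 12, 13, 13, 12, 12, 15, 14, 15, 14, 15, 14, 14, 14, 14, 15, 15, 14, 15, 18, 17, 18, 18, 17, 16, 17, 17, 17, 19, 19] = true := by decide +kernel
theorem c49 : eqW R 10 5 [61] [12, 13, 13, 13, 12, 12, 13, 13, 12, 13, 13, 12, 12, 15, 14, 15, 14, 15, 14, 14, 14, 14, 15, 15, 14, 15, 18, 17, 18, 18, 17, 16, 17, 17, 17, 19, 19] = true := by decide +kernel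
theorem c50 : eqW R 0 5 [60] [11, 11, 11, 10, 10, 11, 10, 10, 11, 10, 11, 10, 10, 10, 12, 13, 12, 12, 13, 12, 12, 12, 12, 12, 12, 13, 13, 13, 12, 15, 14, 14, 14, 15, 14, 14, 14, 14, 14, 14, 14, 17, 16, 18, 18, 17, 17, 17, 16, 16, 21, 21, 20] = true := by decide +kernel
theorem c51 : eqW R 5 5 [60] [11, 11, 11, 10, 10, 11, 10, 10, 11, 10, 11, 10, 10, 10, 12, 13, 12, 12, 13, 12, 12, 12, 12, 12, 12, 13, 13, 13, 12, 15, 14, 14, 14, 15, 14, 14, 14, 14, 14, 14, 14, 17, 16, 18, 18, 17, 17, 17, 16, 16, 21, 21, 20] = true := by decide +kernel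
theorem c52 : eqW R 10 5 [60] [11, 11, 11, 10, 10, 11, 10, 10, 11, 10, 11, 10, 10, 10, 12, 13, 12, 12, 13, 12, 12, 12, 12, 12, 12, 13, 13, 13, 12, 15, 14, 14, 14, 15, 14, 14, 14, 14, 14, 14, 14, 17, 16, 18, 18, 17, 17, 17, 16, 16, 21, 21, 20] = true := by decide +kernel
theorem c53 : eqW R 0 5 [59] [11, 10, 11, 11, 10, 11, 11, 11, 11, 13, 12, 12, 13, 12, 13, 13, 13, 13, 12, 12, 13, 12, 12, 12, 12, 15, 14, 15, 15, 15, 14, 15, 14, 14, 14, 15, 14, 15, 14, 14, 14, 17, 16, 16, 17, 16, 17, 16, 18, 17, 21, 20, 20, 19] = true := by decide +kernel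
theorem c54 : eqW R 5 5 [59] [11, 10, 11, 11, 10, 11, 11, 11, 11, 13, 12, 12, 13, 12, 13, 13, 13, 13, 12, 12, 13, 12, 12, 12, 12, 15, 14, 15, 15, 15, 14, 15, 14, 14, 14, 15, 14, 15, 14, 14, 14, 17, 16, 16, 17, 16, 17, 16, 18, 17, 21, 20, 20, 19] = true := by decide +kernel
theorem c55 : eqW R 10 5 [59] [11, 10, 11, 11, 10, 11, 11, 11, 11, 13, 12, 12, 13, 12, 13, 13, 13, 13, 12, 12, 13, 12, 12, 12, 12, 15, 14, 15, 15, 15, 14, 15, 14, 14, 14, 15, 14, 15, 14, 14, 14, 17, 16, 16, 17, 16, 17, 16, 18, 17, 21, 20, 20, 19] = true := by decide +kernel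
theorem c56 : eqW R 0 5 [58] [10, 11, 11, 10, 10, 10, 10, 10, 11, 11, 11, 10, 10, 10, 10, 11, 10, 12, 13, 13, 13, 13, 12, 13, 12, 13, 13, 13, 13, 12, 13, 12, 15, 15, 14, 14, 15, 14, 15, 14, 15, 15, 14, 14, 15, 14, 16, 17, 16, 17, 17, 18, 17, 18, 20, 19, 19] = true := by decide +kernel
theorem c57 : eqW R 5 5 [58] [10, 11, 11, 10, 10, 10, 10, 10, 11, 11, 11, 10, 10, 10, 10, 11, 10, 12, 13, 13, 13, 13, 12, 13, 12, 13, 13, 13, 13, 12, 13, 12, 15, 15, 14, 14, 15, 14, 15, 14, 15, 15, 14, 14, 15, 14, 16, 17, 16, 17, 17, 18, 17, 18, 20, 19, 19] = true := by decide +kernel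
theorem c58 : eqW R 10 5 [58] [10, 11, 11, 10, 10, 10, 10, 10, 11, 11, 11, 10, 10, 10, 10, 11, 10, 12, 13, 13, 13, 13, 12, 13, 12, 13, 13, 13, 13, 12, 13, 12, 15, 15, 14, 14, 15, 14, 15, 14, 15, 15, 14, 14, 15, 14, 16, 17, 16, 17, 17, 18, 17, 18, 20, 19, 19] = true := by decide +kernel
theorem c59 : eqW R 0 5 [57] [56, 56, 45, 45, 45, 45, 45, 45, 45, 45, 45, 45, 45, 45, 45, 45, 45, 45, 45, 45, 45, 45, 45, 45, 45, 45, 45, 45, 56, 45] = true := by decide +kernel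
theorem c60 : eqW R 5 5 [57] [56, 56, 45, 45, 45, 45, 45, 45, 45, 45, 45, 45, 45, 45, 45, 45, 45, 45, 45, 45, 45, 45, 45, 45, 45, 45, 45, 45, 56, 45] = true := by decide +kernel
theorem c61 : eqW R 10 5 [57] [56, 56, 45, 45, 45, 45, 45, 45, 45, 45, 45, 45, 45, 45, 45, 45, 45, 45, 45, 45, 45, 45, 45, 45, 45, 45, 45, 45, 56, 45] = true := by decide +kernel
theorem c62 : eqW R 0 5 [56] [55, 55, 45, 45, 45, 45, 45, 45, 45, 45, 45, 45, 45, 45, 45, 45, 45, 45, 45, 45, 45, 45, 45, 45, 45, 45, 45, 45, 55, 45] = true := by decide +kernel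
theorem c63 : eqW R 5 5 [56] [55, 55, 45, 45, 45, 45, 45, 45, 45, 45, 45, 45, 45, 45, 45, 45, 45, 45, 45, 45, 45, 45, 45, 45, 45, 45, 45, 45, 55, 45] = true := by decide +kernel
theorem c64 : eqW R 10 5 [56] [55, 55, 45, 45, 45, 45, 45, 45, 45, 45, 45, 45, 45, 45, 45, 45, 45, 45, 45, 45, 45, 45, 45, 45, 45, 45, 45, 45, 55, 45] = true := by decide +kernel
theorem c65 : eqW R 0 5 [55] [54, 54, 45, 45, 45, 45, 45, 45, 45, 45, 45, 45, 45, 45, 45, 45, 45, 45, 45, 45, 45, 45, 45, 45, 45, 45, 45, 45, 54, 45] = true := by decide +kernel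
theorem c66 : eqW R 5 5 [55] [54, 54, 45, 45, 45, 45, 45, 45, 45, 45, 45, 45, 45, 45, 45, 45, 45, 45, 45, 45, 45, 45, 45, 45, 45, 45, 45, 45, 54, 45] = true := by decide +kernel
theorem c67 : eqW R 10 5 [55] [54, 54, 45, 45, 45, 45, 45, 45, 45, 45, 45, 45, 45, 45, 45, 45, 45, 45, 45, 45, 45, 45, 45, 45, 45, 45, 45, 45, 54, 45] = true := by decide +kernel
theorem c68 : eqW R 0 5 [54] [53, 53, 45, 45, 45, 45, 45, 45, 45, 45, 45, 45, 45, 45, 45, 45, 45, 45, 45, 45, 45, 45, 45, 45, 45, 45, 45, 45, 53, 45] = true := by decide +kernel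
theorem c69 : eqW R 5 5 [54] [53, 53, 45, 45, 45, 45, 45, 45, 45, 45, 45, 45, 45, 45, 45, 45, 45, 45, 45, 45, 45, 45, 45, 45, 45, 45, 45, 45, 53, 45] = true := by decide +kernel
theorem c70 : eqW R 10 5 [54] [53, 53, 45, 45, 45, 45, 45, 45, 45, 45, 45, 45, 45, 45, 45, 45, 45, 45, 45, 45, 45, 45, 45, 45, 45, 45, 45, 45, 53, 45] = true := by decide +kernel
theorem c71 : eqW R 0 5 [53] [52, 52, 45, 45, 45, 45, 45, 45, 45, 45, 45, 45, 45, 45, 45, 45, 45, 45, 45, 45, 45, 45, 45, 45, 45, 45, 45, 45, 52, 45] = true := by decide +kernel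
theorem c72 : eqW R 5 5 [53] [52, 52, 45, 45, 45, 45, 45, 45, 45, 45, 45, 45, 45, 45, 45, 45, 45, 45, 45, 45, 45, 45, 45, 45, 45, 45, 45, 45, 52, 45] = true := by decide +kernel
theorem c73 : eqW R 10 5 [53] [52, 52, 45, 45, 45, 45, 45, 45, 45, 45, 45, 45, 45, 45, 45, 45, 45, 45, 45, 45, 45, 45, 45, 45, 45, 45, 45, 45, 52, 45] = true := by decide +kernel
theorem c74 : eqW R 0 5 [52] [50, 50, 45, 45, 45, 45, 45, 45, 45, 45, 45, 45, 45, 45, 45, 45, 45, 45, 45, 45, 45, 45, 45, 45, 45, 45, 45, 45, 50, 45] = true := by decide +kernel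
theorem c75 : eqW R 5 5 [52] [50, 50, 45, 45, 45, 45, 45, 45, 45, 45, 45, 45, 45, 45, 45, 45, 45, 45, 45, 45, 45, 45, 45, 45, 45, 45, 45, 45, 50, 45] = true := by decide +kernel
theorem c76 : eqW R 10 5 [52] [50, 50, 45, 45, 45, 45, 45, 45, 45, 45, 45, 45, 45, 45, 45, 45, 45, 45, 45, 45, 45, 45, 45, 45, 45, 45, 45, 45, 50, 45] = true := by decide +kernel
theorem c77 : eqW R 0 5 [51] [49, 49, 49, 49, 49, 49, 49, 49, 45, 45, 45, 45, 45, 45, 45, 45, 45, 45, 45, 45, 45, 45, 45, 45, 45, 45, 45, 45, 45, 45, 45, 45, 45, 45, 49, 45] = true := by decide +kernel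
theorem c78 : eqW R 5 5 [51] [49, 49, 49, 49, 49, 49, 49, 49, 45, 45, 45, 45, 45, 45, 45, 45, 45, 45, 45, 45, 45, 45, 45, 45, 45, 45, 45, 45, 45, 45, 45, 45, 45, 45, 49, 45] = true := by decide +kernel
theorem c79 : eqW R 10 5 [51] [49, 49, 49, 49, 49, 49, 49, 49, 45, 45, 45, 45, 45, 45, 45, 45, 45, 45, 45, 45, 45, 45, 45, 45, 45, 45, 45, 45, 45, 45, 45, 45, 45, 45, 49, 45] = true := by decide +kernel
theorem c80 : eqW R 0 5 [50] [48, 48, 48, 48, 48, 48, 48, 48, 45, 45, 45, 45, 45, 45, 45, 45, 45, 45, 45, 45, 45, 45, 45, 45, 45, 45, 45, 45, 45, 45, 45, 45, 45, 45, 48, 45] = true := by decide +kernel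
theorem c81 : eqW R 5 5 [50] [48, 48, 48, 48, 48, 48, 48, 48, 45, 45, 45, 45, 45, 45, 45, 45, 45, 45, 45, 45, 45, 45, 45, 45, 45, 45, 45, 45, 45, 45, 45, 45, 45, 45, 48, 45] = true := by decide +kernel
theorem c82 : eqW R 10 5 [50] [48, 48, 48, 48, 48, 48, 48, 48, 45, 45, 45, 45, 45, 45, 45, 45, 45, 45, 45, 45, 45, 45, 45, 45, 45, 45, 45, 45, 45, 45, 45, 45, 45, 45, 48, 45] = true := by decide +kernel
theorem c83 : eqW R 0 5 [49] [47, 47, 47, 47, 47, 47, 47, 47, 45, 45, 45, 45, 45, 45, 45, 45, 45, 45, 45, 45, 45, 45, 45, 45, 45, 45, 45, 45, 45, 45, 45, 45, 45, 45, 47, 45] = true := by decide +kernel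
theorem c84 : eqW R 5 5 [49] [47, 47, 47, 47, 47, 47, 47, 47, 45, 45, 45, 45, 45, 45, 45, 45, 45, 45, 45, 45, 45, 45, 45, 45, 45, 45, 45, 45, 45, 45, 45, 45, 45, 45, 47, 45] = true := by decide +kernel
theorem c85 : eqW R 10 5 [49] [47, 47, 47, 47, 47, 47, 47, 47, 45, 45, 45, 45, 45, 45, 45, 45, 45, 45, 45, 45, 45, 45, 45, 45, 45, 45, 45, 45, 45, 45, 45, 45, 45, 45, 47, 45] = true := by decide +kernel
end H0.QFi23
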