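import Cfsg.Agent.H0.QFi23.D
set_option maxRecDepth 100000
set_option Elab.async false
namespace H0.QFi23
open H0 BN 
theorem c86 : eqW R 0 5 [48] [46, 46, 46, 46, 46, 46, 46, 46, 46, 46, 46, 46, 46, 46, 46, 46, 46, 46, 46, 46, 46, 46, 46, 46, 46, 46, 45, 45, 45, 45, 45, 45, 45, 45, 45, 45, 45, 45, 45, 45, 45, 45, 45, 45, 45, 45, 45, 45, 45, 45, 45, 45, 46, 45] = true := by decide +kernel
theorem c87 : eqW R 5 5 [48] [46, 46, 46, 46, 46, 46, 46, 46, 46, 46, 46, 46, 46, 46, 46, 46, 46, 46, 46, 46, 46, 46, 46, 46, 46, 46, 45, 45, 45, 45, 45, 45, 45, 45, 45, 45, 45, 45, 45, 45, 45, 45, 45, 45, 45, 45, 45, 45, 45, 45, 45, 45, 46, 45] = true := by decide +kernel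
theorem c88 : eqW R 10 5 [48] [46, 46, 46, 46, 46, 46, 46, 46, 46, 46, 46, 46, 46, 46, 46, 46, 46, 46, 46, 46, 46, 46, 46, 46, 46, 46, 45, 45, 45, 45, 45, 45, 45, 45, 45, 45, 45, 45, 45, 45, 45, 45, 45, 45, 45, 45, 45, 45, 45, 45, 45, 45, 46, 45] = true := by decide +kernel
theorem c89 : eqW R 0 5 [47] [10, 10, 10, 11, 11, 10, 10, 11, 11, 10, 11, 10, 10, 11, 10, 13, 13, 12, 13, 12, 13, 12, 13, 12, 13, 12, 13, 13, 13, 14, 14, 14, 15, 14, 14, 14, 14, 15, 14, 14, 14, 17, 18, 17, 17, 16, 17, 20, 20, 19, 19] = true := by decide +kernel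
theorem c90 : eqW R 5 5 [47] [10, 10, 10, 11, 11, 10, 10, 11, 11, 10, 11, 10, 10, 11, 10, 13, 13, 12, 13, 12, 13, 12, 13, 12, 13, 12, 13, 13, 13, 14, 14, 14, 15, 14, 14, 14, 14, 15, 14, 14, 14, 17, 18, 17, 17, 16, 17, 20, 20, 19, 19] = true := by decide +kernel
theorem c91 : eqW R 10 5 [47] [10, 10, 10, 11, 11, 10, 10, 11, 11, 10, 11, 10, 10, 11, 10, 13, 13, 12, 13, 12, 13, 12, 13, 12, 13, 12, 13, 13, 13, 14, 14, 14, 15, 14, 14, 14, 14, 15, 14, 14, 14, 17, 18, 17, 17, 16, 17, 20, 20, 19, 19] = true := by decide +kernel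
theorem c92 : eqW R 0 5 [46] [11, 10, 10, 10, 11, 11, 10, 10, 11, 11, 10, 11, 10, 10, 10, 10, 13, 12, 13, 12, 12, 12, 12, 13, 12, 13, 13, 13, 12, 15, 15, 14, 15, 15, 15, 15, 14, 14, 15, 14, 15, 15, 14, 16, 16, 18, 17, 17, 16, 16, 17, 18, 21, 21, 20, 20, 19, 19] = true := by decide +kernel
theorem c93 : eqW R 5 5 [46] [11, 10, 10, 10, 11, 11, 10, 10, 11, 11, 10, 11, 10, 10, 10, 10, 13, 12, 13, 12, 12, 12, 12, 13, 12, 13, 13, 13, 12, 15, 15, 14, 15, 15, 15, 15, 14, 14, 15, 14, 15, 15, 14, 16, 16, 18, 17, 17, 16, 16, 17, 18, 21, 21, 20, 20, 19, 19] = true := by decide +kernel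
theorem c94 : eqW R 10 5 [46] [11, 10, 10, 10, 11, 11, 10, 10, 11, 11, 10, 11, 10, 10, 10, 10, 13, 12, 13, 12, 12, 12, 12, 13, 12, 13, 13, 13, 12, 15, 15, 14, 15, 15, 15, 15, 14, 14, 15, 14, 15, 15, 14, 16, 16, 18, 17, 17, 16, 16, 17, 18, 21, 21, 20, 20, 19, 19] = true := by decide +kernel
theorem c95 : eqW R 0 5 [45] [10, 11, 10, 11, 11, 10, 11, 11, 10, 10, 11, 11, 10, 12, 13, 12, 12, 12, 12, 12, 13, 12, 13, 12, 12, 12, 12, 13, 13, 14, 14, 15, 14, 15, 14, 15, 14, 14, 14, 17, 17, 16, 18, 16, 17, 17, 17, 18, 21, 20, 20, 19, 19] = true := by decide +kernel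
theorem c96 : eqW R 5 5 [45] [10, 11, 10, 11, 11, 10, 11, 11, 10, 10, 11, 11, 10, 12, 13, 12, 12, 12, 12, 12, 13, 12, 13, 12, 12, 12, 12, 13, 13, 14, 14, 15, 14, 15, 14, 15, 14, 14, 14, 17, 17, 16, 18, 16, 17, 17, 17, 18, 21, 20, 20, 19, 19] = true := by decide +kernel
theorem c97 : eqW R 10 5 [45] [10, 11, 10, 11, 11, 10, 11, 11, 10, 10, 11, 11, 10, 12, 13, 12, 12, 12, 12, 12, 13, 12, 13, 12, 12, 12, 12, 13, 13, 14, 14, 15, 14, 15, 14, 15, 14, 14, 14, 17, 17, 16, 18, 16, 17, 17, 17, 18, 21, 20, 20, 19, 19] = true := by decide +kernel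
theorem c98 : eqW R 0 5 [44] [12, 13, 13, 13, 12, 12, 13, 13, 13, 13, 13, 12, 13, 12, 14, 15, 14, 15, 14, 15, 15, 15, 15, 14, 14, 14, 14, 14, 18, 18, 17, 18, 21, 21, 19] = true := by decide +kernel
theorem c99 : eqW R 5 5 [44] [12, 13, 13, 13, 12, 12, 13, 13, 13, 13, 13, 12, 13, 12, 14, 15, 14, 15, 14, 15, 15, 15, 15, 14, 14, 14, 14, 14, 18, 18, 17, 18, 21, 21, 19] = true := by decide +kernel
theorem c100 : eqW R 10 5 [44] [12, 13, 13, 13, 12, 12, 13, 13, 13, 13, 13, 12, 13, 12, 14, 15, 14, 15, 14, 15, 15, 15, 15, 14, 14, 14, 14, 14, 18, 18, 17, 18, 21, 21, 19] = true := by decide +kernel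
theorem c101 : eqW R 0 5 [43] [12, 12, 13, 13, 12, 12, 12, 13, 12, 12, 14, 14, 15, 14, 14, 15, 14, 15, 14, 15, 14, 14, 14, 16, 17, 17, 18, 16, 17, 16, 16, 16, 21, 20, 19] = true := by decide +kernel
theorem c102 : eqW R 5 5 [43] [12, 12, 13, 13, 12, 12, 12, 13, 12, 12, 14, 14, 15, 14, 14, 15, 14, 15, 14, 15, 14, 14, 14, 16, 17, 17, 18, 16, 17, 16, 16, 16, 21, 20, 19] = true := by decide +kernel
theorem c103 : eqW R 10 5 [43] [12, 12, 13, 13, 12, 12, 12, 13, 12, 12, 14, 14, 15, 14, 14, 15, 14, 15, 14, 15, 14, 14, 14, 16, 17, 17, 18, 16, 17, 16, 16, 16, 21, 20, 19] = true := by decide +kernel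
theorem c104 : eqW R 0 5 [42] [12, 12, 12, 13, 13, 12, 12, 13, 13, 14, 14, 15, 15, 15, 15, 14, 15, 14, 14, 15, 14, 17, 16, 17, 17, 17, 16, 17, 16, 21, 20, 19, 19] = true := by decide +kernel
theorem c105 : eqW R 5 5 [42] [12, 12, 12, 13, 13, 12, 12, 13, 13, 14, 14, 15, 15, 15, 15, 14, 15, 14, 14, 15, 14, 17, 16, 17, 17, 17, 16, 17, 16, 21, 20, 19, 19] = true := by decide +kernel
theorem c106 : eqW R 10 5 [42] [12, 12, 12, 13, 13, 12, 12, 13, 13, 14, 14, 15, 15, 15, 15, 14, 15, 14, 14, 15, 14, 17, 16, 17, 17, 17, 16, 17, 16, 21, 20, 19, 19] = true := by decide +kernel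
theorem c107 : eqW R 0 5 [41] [12, 13, 12, 13, 13, 13, 12, 12, 12, 12, 12, 13, 13, 14, 15, 14, 14, 14, 15, 14, 15, 14, 14, 15, 15, 17, 17, 16, 18, 16, 17, 17, 17, 16] = true := by decide +kernel
theorem c108 : eqW R 5 5 [41] [12, 13, 12, 13, 13, 13, 12, 12, 12, 12, 12, 13, 13, 14, 15, 14, 14, 14, 15, 14, 15, 14, 14, 15, 15, 17, 17, 16, 18, 16, 17, 17, 17, 16] = true := by decide +kernel
theorem c109 : eqW R 10 5 [41] [12, 13, 12, 13, 13, 13, 12, 12, 12, 12, 12, 13, 13, 14, 15, 14, 14, 14, 15, 14, 15, 14, 14, 15, 15, 17, 17, 16, 18, 16, 17, 17, 17, 16] = true := by decide +kernel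
theorem c110 : eqW R 0 5 [40] [39, 24, 24, 24, 24, 24, 24, 24, 39, 24] = true := by decide +kernel
theorem c111 : eqW R 5 5 [40] [39, 24, 24, 24, 24, 24, 24, 24, 39, 24] = true := by decide +kernel
theorem c112 : eqW R 10 5 [40] [39, 24, 24, 24, 24, 24, 24, 24, 39, 24] = true := by decide +kernel
theorem c113 : eqW R 0 5 [39] [37, 25, 25, 25, 25, 25, 25, 25, 37, 25] = true := by decide +kernel
theorem c114 : eqW R 5 5 [39] [37, 25, 25, 25, 25, 25, 25, 25, 37, 25] = true := by decide +kernel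
theorem c115 : eqW R 10 5 [39] [37, 25, 25, 25, 25, 25, 25, 25, 37, 25] = true := by decide +kernel
theorem c116 : eqW R 0 5 [38] [35, 25, 25, 25, 25, 25, 25, 25, 35, 25] = true := by decide +kernel
theorem c117 : eqW R 5 5 [38] [35, 25, 25, 25, 25, 25, 25, 25, 35, 25] = true := by decide +kernel
theorem c118 : eqW R 10 5 [38] [35, 25, 25, 25, 25, 25, 25, 25, 35, 25] = true := by decide +kernel
theorem c119 : eqW R 0 5 [37] [35, 24, 24, 24, 24, 24, 24, 24, 35, 24] = true := by decide +kernel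
theorem c120 : eqW R 5 5 [37] [35, 24, 24, 24, 24, 24, 24, 24, 35, 24] = true := by decide +kernel
theorem c121 : eqW R 10 5 [37] [35, 24, 24, 24, 24, 24, 24, 24, 35, 24] = true := by decide +kernel
theorem c122 : eqW R 0 5 [36] [32, 26, 26, 26, 26, 26, 26, 26, 32, 26] = true := by decide +kernel
theorem c123 : eqW R 5 5 [36] [32, 26, 26, 26, 26, 26, 26, 26, 32, 26] = true := by decide +kernel
theorem c124 : eqW R 10 5 [36] [32, 26, 26, 26, 26, 26, 26, 26, 32, 26] = true := by decide +kernel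
theorem c125 : eqW R 0 5 [35] [32, 25, 25, 25, 25, 25, 25, 25, 32, 25] = true := by decide +kernel
theorem c126 : eqW R 5 5 [35] [32, 25, 25, 25, 25, 25, 25, 25, 32, 25] = true := by decide +kernel
theorem c127 : eqW R 10 5 [35] [32, 25, 25, 25, 25, 25, 25, 25, 32, 25] = true := by decide +kernel
theorem c128 : eqW R 0 5 [34] [31, 31, 31, 25, 25, 25, 25, 25, 25, 25, 31, 25] = true := by decide +kernel
theorem c129 : eqW R 5 5 [34] [31, 31, 31, 25, 25, 25, 25, 25, 25, 25, 31, 25] = true := by decide +kernel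
theorem c130 : eqW R 10 5 [34] [31, 31, 31, 25, 25, 25, 25, 25, 25, 25, 31, 25] = true := by decide +kernel
theorem c131 : eqW R 0 5 [33] [30, 25, 25, 25, 25, 25, 25, 25, 30, 25] = true := by decide +kernel
theorem c132 : eqW R 5 5 [33] [30, 25, 25, 25, 25, 25, 25, 25, 30, 25] = true := by decide +kernel
theorem c133 : eqW R 10 5 [33] [30, 25, 25, 25, 25, 25, 25, 25, 30, 25] = true := by decide +kernel
theorem c134 : eqW R 0 5 [32] [30, 24, 24, 24, 24, 24, 24, 24, 30, 24] = true := by decide +kernel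
theorem c135 : eqW R 5 5 [32] [30, 24, 24, 24, 24, 24, 24, 24, 30, 24] = true := by decide +kernel
theorem c136 : eqW R 10 5 [32] [30, 24, 24, 24, 24, 24, 24, 24, 30, 24] = true := by decide +kernel
theorem c137 : eqW R 0 5 [31] [28, 28, 28, 25, 25, 25, 25, 25, 25, 25, 28, 25] = true := by decide +kernel
theorem c138 : eqW R 5 5 [31] [28, 28, 28, 25, 25, 25, 25, 25, 25, 25, 28, 25] = true := by decide +kernel
theorem c139 : eqW R 10 5 [31] [28, 28, 28, 25, 25, 25, 25, 25, 25, 25, 28, 25] = true := by decide +kernel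
theorem c140 : eqW R 0 5 [30] [27, 25, 25, 25, 25, 25, 25, 25, 27, 25] = true := by decide +kernel
theorem c141 : eqW R 5 5 [30] [27, 25, 25, 25, 25, 25, 25, 25, 27, 25] = true := by decide +kernel
theorem c142 : eqW R 10 5 [30] [27, 25, 25, 25, 25, 25, 25, 25, 27, 25] = true := by decide +kernel
theorem c143 : eqW R 0 5 [29] [26, 26, 26, 26, 26, 26, 26, 25, 25, 25, 25, 25, 25, 25, 26, 25] = true := by decide +kernel
theorem c144 : eqW R 5 5 [29] [26, 26, 26, 26, 26, 26, 26, 25, 25, 25, 25, 25, 25, 25, 26, 25] = true := by decide +kernel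
theorem c145 : eqW R 10 5 [29] [26, 26, 26, 26, 26, 26, 26, 25, 25, 25, 25, 25, 25, 25, 26, 25] = true := by decide +kernel
theorem c146 : eqW R 0 5 [28] [25, 25, 25, 25, 25, 25, 25, 24, 24, 24, 24, 24, 24, 24, 25, 24] = true := by decide +kernel
theorem c147 : eqW R 5 5 [28] [25, 25, 25, 25, 25, 25, 25, 24, 24, 24, 24, 24, 24, 24, 25, 24] = true := by decide +kernel
theorem c148 : eqW R 10 5 [28] [25, 25, 25, 25, 25, 25, 25, 24, 24, 24, 24, 24, 24, 24, 25, 24] = true := by decide +kernel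
theorem c149 : eqW R 0 5 [27] [24, 24, 24, 24, 24, 24, 24, 23, 23, 23, 23, 23, 23, 23, 24, 23] = true := by decide +kernel
theorem c150 : eqW R 5 5 [27] [24, 24, 24, 24, 24, 24, 24, 23, 23, 23, 23, 23, 23, 23, 24, 23] = true := by decide +kernel
theorem c151 : eqW R 10 5 [27] [24, 24, 24, 24, 24, 24, 24, 23, 23, 23, 23, 23, 23, 23, 24, 23] = true := by decide +kernel
theorem c152 : eqW R 0 5 [26] [12, 13, 12, 12, 12, 13, 13, 13, 13, 12, 12, 12, 13, 15, 15, 14, 15, 15, 14, 15, 14, 15, 14, 14, 14, 14, 14, 15, 18, 18, 17, 18, 17, 16, 16, 21, 21, 20] = true := by decide +kernel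
theorem c153 : eqW R 5 5 [26] [12, 13, 12, 12, 12, 13, 13, 13, 13, 12, 12, 12, 13, 15, 15, 14, 15, 15, 14, 15, 14, 15, 14, 14, 14, 14, 14, 15, 18, 18, 17, 18, 17, 16, 16, 21, 21, 20] = true := by decide +kernel
theorem c154 : eqW R 10 5 [26] [12, 13, 12, 12, 12, 13, 13, 13, 13, 12, 12, 12, 13, 15, 15, 14, 15, 15, 14, 15, 14, 15, 14, 14, 14, 14, 14, 15, 18, 18, 17, 18, 17, 16, 16, 21, 21, 20] = true := by decide +kernel
theorem c155 : eqW R 0 5 [25] [13, 12, 13, 12, 12, 13, 12, 12, 13, 15, 14, 14, 14, 14, 15, 14, 15, 14, 14, 14, 14, 18, 16, 17, 17, 17, 16, 17, 18, 18, 21, 19, 19] = true := by decide +kernel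
theorem c156 : eqW R 5 5 [25] [13, 12, 13, 12, 12, 13, 12, 12, 13, 15, 14, 14, 14, 14, 15, 14, 15, 14, 14, 14, 14, 18, 16, 17, 17, 17, 16, 17, 18, 18, 21, 19, 19] = true := by decide +kernel
theorem c157 : eqW R 10 5 [25] [13, 12, 13, 12, 12, 13, 12, 12, 13, 15, 14, 14, 14, 14, 15, 14, 15, 14, 14, 14, 14, 18, 16, 17, 17, 17, 16, 17, 18, 18, 21, 19, 19] = true := by decide +kernel
theorem c158 : eqW R 0 5 [24] [12, 12, 12, 13, 13, 13, 13, 13, 12, 13, 13, 12, 12, 12, 13, 12, 14, 14, 15, 15, 15, 15, 14, 15, 14, 15, 15, 14, 17, 16, 17, 18, 17, 16, 16, 17, 18, 16, 21, 21, 20, 20, 19] = true := by decide +kernel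
theorem c159 : eqW R 5 5 [24] [12, 12, 12, 13, 13, 13, 13, 13, 12, 13, 13, 12, 12, 12, 13, 12, 14, 14, 15, 15, 15, 15, 14, 15, 14, 15, 15, 14, 17, 16, 17, 18, 17, 16, 16, 17, 18, 16, 21, 21, 20, 20, 19] = true := by decide +kernel
theorem c160 : eqW R 10 5 [24] [12, 12, 12, 13, 13, 13, 13, 13, 12, 13, 13, 12, 12, 12, 13, 12, 14, 14, 15, 15, 15, 15, 14, 15, 14, 15, 15, 14, 17, 16, 17, 18, 17, 16, 16, 17, 18, 16, 21, 21, 20, 20, 19] = true := by decide +kernel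
theorem c161 : eqW R 0 5 [23] [13, 13, 13, 13, 12, 12, 13, 12, 12, 12, 12, 13, 13, 13, 12, 15, 15, 15, 15, 15, 15, 15, 14, 14, 14, 15, 16, 17, 18, 16, 16, 18, 17, 18, 21, 21, 20, 19] = true := by decide +kernel
theorem c162 : eqW R 5 5 [23] [13, 13, 13, 13, 12, 12, 13, 12, 12, 12, 12, 13, 13, 13, 12, 15, 15, 15, 15, 15, 15, 15, 14, 14, 14, 15, 16, 17, 18, 16, 16, 18, 17, 18, 21, 21, 20, 19] = true := by decide +kernel
theorem c163 : eqW R 10 5 [23] [13, 13, 13, 13, 12, 12, 13, 12, 12, 12, 12, 13, 13, 13, 12, 15, 15, 15, 15, 15, 15, 15, 14, 14, 14, 15, 16, 17, 18, 16, 16, 18, 17, 18, 21, 21, 20, 19] = true := by decide +kernel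
end H0.QFi23
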