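import Cfsg.Agent.H0.QFi23.K0
import Cfsg.Agent.H0.QFi23.K1
import Cfsg.Agent.H0.QFi23.K2
set_option maxRecDepth 100000
set_option Elab.async false
namespace H0.QFi23
open H0 BN 
theorem defs_ok : DefsOK R.p defs 23 := (defsOK_cons (eq_of_bits R (eqb_step R (eqb_step R (eqb_step R (eqb_zero R [23] [13, 13, 13, 13, 12, 12, 13, 12, 12, 12, 12, 13, 13, 13, 12, 15, 15, 15, 15, 15, 15, 15, 14, 14, 14, 15, 16, 17, 18, 16, 16, 18, 17, 18, 21, 21, 20, 19]) c161) c162) c163)) (by decide) (defsOK_cons (eq_of_bits R (eqb_step R (eqb_step R (eqb_step R (eqb_zero R [24] [12, 12, 12, 13, 13, 13, 13, 13, 12, 13, 13, 12, 12, 12, 13, 12, 14, 14, 15, 15, 15, 15, 14, 15, 14, 15, 15, 14, 17, 16, 17, 18, 17, 16, 16, 17, 18, 16, 21, 21, 20, 20, 19]) c158) c159) c160)) (by decide) (defsOK_cons (eq_of_bits R (eqb_step R (eqb_step R (eqb_step R (eqb_zero R [25] [13, 12, 13, 12, 12, 13, 12, 12, 13, 15, 14, 14, 14, 14, 15, 14,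 15, 14, 14, 14, 14, 18, 16, 17, 17, 17, 16, 17, 18, 18, 21, 19, 19]) c155) c156) c157)) (by decide) (defsOK_cons (eq_of_bits R (eqb_step R (eqb_step R (eqb_step R (eqb_zero R [26] [12, 13, 12, 12, 12, 13, 13, 13, 13, 12, 12, 12, 13, 15, 15, 14, 15, 15, 14, 15, 14, 15, 14, 14, 14, 14, 14, 15, 18, 18, 17, 18, 17, 16, 16, 21, 21, 20]) c152) c153) c154)) (by decide) (defsOK_cons (eq_of_bits R (eqb_step R (eqb_step R (eqb_step R (eqb_zero R [27] [24, 24, 24, 24, 24, 24, 24, 23, 23, 23, 23, 23, 23, 23, 24, 23]) c149) c150) c151)) (by decide) (defsOK_cons (eq_of_bits R (eqb_step R (eqb_step R (eqb_step R (eqb_zero R [28] [25, 25, 25, 25, 25, 25, 25, 24, 24, 24, 24, 24, 24, 24, 25, 24]) c146) c147) c148)) (by decide) (defsOK_cons (eq_of_bits R (eqb_step R (eqb_step R (eqb_step R (eqb_zero R [29] [26, 26, 26, 26, 26, 26, 26, 25, 25, 25, 25, 25, 25, 25, 26, 25]) c143) c144) c145)) (by decide) (defsOK_cons (eq_of_bits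 R (eqb_step R (eqb_step R (eqb_step R (eqb_zero R [30] [27, 25, 25, 25, 25, 25, 25, 25, 27, 25]) c140) c141) c142)) (by decide) (defsOK_cons (eq_of_bits R (eqb_step R (eqb_step R (eqb_step R (eqb_zero R [31] [28, 28, 28, 25, 25, 25, 25, 25, 25, 25, 28, 25]) c137) c138) c139)) (by decide) (defsOK_cons (eq_of_bits R (eqb_step R (eqb_step R (eqb_step R (eqb_zero R [32] [30, 24, 24, 24, 24, 24, 24, 24, 30, 24]) c134) c135) c136)) (by decide) (defsOK_cons (eq_of_bits R (eqb_step R (eqb_step R (eqb_step R (eqb_zero R [33] [30, 25, 25, 25, 25, 25, 25, 25, 30, 25]) c131) c132) c133)) (by decide) (defsOK_cons (eq_of_bits R (eqb_step R (eqb_step R (eqb_step R (eqb_zero R [34] [31, 31, 31, 25, 25, 25, 25, 25, 25, 25, 31, 25]) c128) c129) c130)) (by decide) (defsOK_cons (eq_of_bits R (eqb_step R (eqb_step R (eqb_step R (eqb_zero R [35] [32, 25, 25, 25, 25, 25, 25, 25, 32, 25]) c125) c126) c127)) (by decide) (defsOK_cons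 (eq_of_bits R (eqb_step R (eqb_step R (eqb_step R (eqb_zero R [36] [32, 26, 26, 26, 26, 26, 26, 26, 32, 26]) c122) c123) c124)) (by decide) (defsOK_cons (eq_of_bits R (eqb_step R (eqb_step R (eqb_step R (eqb_zero R [37] [35, 24, 24, 24, 24, 24, 24, 24, 35, 24]) c119) c120) c121)) (by decide) (defsOK_cons (eq_of_bits R (eqb_step R (eqb_step R (eqb_step R (eqb_zero R [38] [35, 25, 25, 25, 25, 25, 25, 25, 35, 25]) c116) c117) c118)) (by decide) (defsOK_cons (eq_of_bits R (eqb_step R (eqb_step R (eqb_step R (eqb_zero R [39] [37, 25, 25, 25, 25, 25, 25, 25, 37, 25]) c113) c114) c115)) (by decide) (defsOK_cons (eq_of_bits R (eqb_step R (eqb_step R (eqb_step R (eqb_zero R [40] [39, 24, 24, 24, 24, 24, 24, 24, 39, 24]) c110) c111) c112)) (by decide) (defsOK_cons (eq_of_bits R (eqb_step R (eqb_step R (eqb_step R (eqb_zero R [41] [12, 13, 12, 13, 13, 13, 12, 12, 12, 12, 12, 13, 13, 14, 15, 14, 14, 14, 15, 14,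 15, 14, 14, 15, 15, 17, 17, 16, 18, 16, 17, 17, 17, 16]) c107) c108) c109)) (by decide) (defsOK_cons (eq_of_bits R (eqb_step R (eqb_step R (eqb_step R (eqb_zero R [42] [12, 12, 12, 13, 13, 12, 12, 13, 13, 14, 14, 15, 15, 15, 15, 14, 15, 14, 14, 15, 14, 17, 16, 17, 17, 17, 16, 17, 16, 21, 20, 19, 19]) c104) c105) c106)) (by decide) (defsOK_cons (eq_of_bits R (eqb_step R (eqb_step R (eqb_step R (eqb_zero R [43] [12, 12, 13, 13, 12, 12, 12, 13, 12, 12, 14, 14, 15, 14, 14, 15, 14, 15, 14, 15, 14, 14, 14, 16, 17, 17, 18, 16, 17, 16, 16, 16, 21, 20, 19]) c101) c102) c103)) (by decide) (defsOK_cons (eq_of_bits R (eqb_step R (eqb_step R (eqb_step R (eqb_zero R [44] [12, 13, 13, 13, 12, 12, 13, 13, 13, 13, 13, 12, 13, 12, 14, 15, 14, 15, 14, 15, 15, 15, 15, 14, 14, 14, 14, 14, 18, 18, 17, 18, 21, 21, 19]) c98) c99) c100)) (by decide) (defsOK_cons (eq_of_bits R (eqb_step R (eqb_step R (eqb_step R (eqb_zero R [45]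 [10, 11, 10, 11, 11, 10, 11, 11, 10, 10, 11, 11, 10, 12, 13, 12, 12, 12, 12, 12, 13, 12, 13, 12, 12, 12, 12, 13, 13, 14, 14, 15, 14, 15, 14, 15, 14, 14, 14, 17, 17, 16, 18, 16, 17, 17, 17, 18, 21, 20, 20, 19, 19]) c95) c96) c97)) (by decide) (defsOK_cons (eq_of_bits R (eqb_step R (eqb_step R (eqb_step R (eqb_zero R [46] [11, 10, 10, 10, 11, 11, 10, 10, 11, 11, 10, 11, 10, 10, 10, 10, 13, 12, 13, 12, 12, 12, 12, 13, 12, 13, 13, 13, 12, 15, 15, 14, 15, 15, 15, 15, 14, 14, 15, 14, 15, 15, 14, 16, 16, 18, 17, 17, 16, 16, 17, 18, 21, 21, 20, 20, 19, 19]) c92) c93) c94)) (by decide) (defsOK_cons (eq_of_bits R (eqb_step R (eqb_step R (eqb_step R (eqb_zero R [47] [10, 10, 10, 11, 11, 10, 10, 11, 11, 10, 11, 10, 10, 11, 10, 13, 13, 12, 13, 12, 13, 12, 13, 12, 13, 12, 13, 13, 13, 14, 14, 14, 15, 14, 14, 14, 14, 15, 14, 14, 14, 17, 18, 17, 17, 16, 17, 20, 20, 19, 19]) c89) c90) c91)) (by decide) (defsOK_cons (eq_of_bits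 R (eqb_step R (eqb_step R (eqb_step R (eqb_zero R [48] [46, 46, 46, 46, 46, 46, 46, 46, 46, 46, 46, 46, 46, 46, 46, 46, 46, 46, 46, 46, 46, 46, 46, 46, 46, 46, 45, 45, 45, 45, 45, 45, 45, 45, 45, 45, 45, 45, 45, 45, 45, 45, 45, 45, 45, 45, 45, 45, 45, 45, 45, 45, 46, 45]) c86) c87) c88)) (by decide) (defsOK_cons (eq_of_bits R (eqb_step R (eqb_step R (eqb_step R (eqb_zero R [49] [47, 47, 47, 47, 47, 47, 47, 47, 45, 45, 45, 45, 45, 45, 45, 45, 45, 45, 45, 45, 45, 45, 45, 45, 45, 45, 45, 45, 45, 45, 45, 45, 45, 45, 47, 45]) c83) c84) c85)) (by decide) (defsOK_cons (eq_of_bits R (eqb_step R (eqb_step R (eqb_step R (eqb_zero R [50] [48, 48, 48, 48, 48, 48, 48, 48, 45, 45, 45, 45, 45, 45, 45, 45, 45, 45, 45, 45, 45, 45, 45, 45, 45, 45, 45, 45, 45, 45, 45, 45, 45, 45, 48, 45]) c80) c81) c82)) (by decide) (defsOK_cons (eq_of_bits R (eqb_step R (eqb_step R (eqb_step R (eqb_zero R [51] [49, 49, 49, 49, 49, 49,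 49, 49, 45, 45, 45, 45, 45, 45, 45, 45, 45, 45, 45, 45, 45, 45, 45, 45, 45, 45, 45, 45, 45, 45, 45, 45, 45, 45, 49, 45]) c77) c78) c79)) (by decide) (defsOK_cons (eq_of_bits R (eqb_step R (eqb_step R (eqb_step R (eqb_zero R [52] [50, 50, 45, 45, 45, 45, 45, 45, 45, 45, 45, 45, 45, 45, 45, 45, 45, 45, 45, 45, 45, 45, 45, 45, 45, 45, 45, 45, 50, 45]) c74) c75) c76)) (by decide) (defsOK_cons (eq_of_bits R (eqb_step R (eqb_step R (eqb_step R (eqb_zero R [53] [52, 52, 45, 45, 45, 45, 45, 45, 45, 45, 45, 45, 45, 45, 45, 45, 45, 45, 45, 45, 45, 45, 45, 45, 45, 45, 45, 45, 52, 45]) c71) c72) c73)) (by decide) (defsOK_cons (eq_of_bits R (eqb_step R (eqb_step R (eqb_step R (eqb_zero R [54] [53, 53, 45, 45, 45, 45, 45, 45, 45, 45, 45, 45, 45, 45, 45, 45, 45, 45, 45, 45, 45, 45, 45, 45, 45, 45, 45, 45, 53, 45]) c68) c69) c70)) (by decide) (defsOK_cons (eq_of_bits R (eqb_step R (eqb_step R (eqb_step R (eqb_zero R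 [55] [54, 54, 45, 45, 45, 45, 45, 45, 45, 45, 45, 45, 45, 45, 45, 45, 45, 45, 45, 45, 45, 45, 45, 45, 45, 45, 45, 45, 54, 45]) c65) c66) c67)) (by decide) (defsOK_cons (eq_of_bits R (eqb_step R (eqb_step R (eqb_step R (eqb_zero R [56] [55, 55, 45, 45, 45, 45, 45, 45, 45, 45, 45, 45, 45, 45, 45, 45, 45, 45, 45, 45, 45, 45, 45, 45, 45, 45, 45, 45, 55, 45]) c62) c63) c64)) (by decide) (defsOK_cons (eq_of_bits R (eqb_step R (eqb_step R (eqb_step R (eqb_zero R [57] [56, 56, 45, 45, 45, 45, 45, 45, 45, 45, 45, 45, 45, 45, 45, 45, 45, 45, 45, 45, 45, 45, 45, 45, 45, 45, 45, 45, 56, 45]) c59) c60) c61)) (by decide) (defsOK_cons (eq_of_bits R (eqb_step R (eqb_step R (eqb_step R (eqb_zero R [58] [10, 11, 11, 10, 10, 10, 10, 10, 11, 11, 11, 10, 10, 10, 10, 11, 10, 12, 13, 13, 13, 13, 12, 13, 12, 13, 13, 13, 13, 12, 13, 12, 15, 15, 14, 14, 15, 14, 15, 14, 15, 15, 14, 14, 15, 14, 16, 17, 16, 17, 17, 18, 17, 18, 20,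 19, 19]) c56) c57) c58)) (by decide) (defsOK_cons (eq_of_bits R (eqb_step R (eqb_step R (eqb_step R (eqb_zero R [59] [11, 10, 11, 11, 10, 11, 11, 11, 11, 13, 12, 12, 13, 12, 13, 13, 13, 13, 12, 12, 13, 12, 12, 12, 12, 15, 14, 15, 15, 15, 14, 15, 14, 14, 14, 15, 14, 15, 14, 14, 14, 17, 16, 16, 17, 16, 17, 16, 18, 17, 21, 20, 20, 19]) c53) c54) c55)) (by decide) (defsOK_cons (eq_of_bits R (eqb_step R (eqb_step R (eqb_step R (eqb_zero R [60] [11, 11, 11, 10, 10, 11, 10, 10, 11, 10, 11, 10, 10, 10, 12, 13, 12, 12, 13, 12, 12, 12, 12, 12, 12, 13, 13, 13, 12, 15, 14, 14, 14, 15, 14, 14, 14, 14, 14, 14, 14, 17, 16, 18, 18, 17, 17, 17, 16, 16, 21, 21, 20]) c50) c51) c52)) (by decide) (defsOK_cons (eq_of_bits R (eqb_step R (eqb_step R (eqb_step R (eqb_zero R [61] [12, 13, 13, 13, 12, 12, 13, 13, 12, 13, 13, 12, 12, 15, 14, 15, 14, 15, 14, 14, 14, 14, 15, 15, 14, 15, 18, 17, 18, 18, 17, 16, 17, 17, 17, 19, 19])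 c47) c48) c49)) (by decide) (defsOK_cons (eq_of_bits R (eqb_step R (eqb_step R (eqb_step R (eqb_zero R [62] [13, 13, 13, 13, 12, 13, 12, 12, 13, 12, 13, 12, 12, 12, 15, 15, 14, 15, 15, 14, 14, 15, 15, 14, 15, 14, 18, 16, 18, 18, 18, 17, 18, 17, 16, 21, 21, 19]) c44) c45) c46)) (by decide) (defsOK_cons (eq_of_bits R (eqb_step R (eqb_step R (eqb_step R (eqb_zero R [63] [12, 12, 12, 12, 13, 12, 13, 12, 13, 12, 12, 12, 13, 13, 13, 15, 14, 15, 15, 14, 15, 14, 15, 15, 15, 14, 14, 16, 16, 18, 17, 18, 18, 16, 16, 21, 21, 20, 20, 19]) c41) c42) c43)) (by decide) (defsOK_nil _ _))))))))))))))))))))))))))))))))))))))))))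
universe u
variable {G : Type u} [Group G] [Finite G] (m0 : Model G) (h0 : m0.R = H0.MFi23.R)
noncomputable def m : Model G := m0.ext (lg := nat_lit 15) (N := nat_lit 32768) (l := H0.MFi23.nl) h0 nl nl_ok 23 rfl defs defs_ok (by decide +kernel)
theorem mR : (m m0 h0).R = R := rfl
variable (hb : m0.pst [2, 20380, 6320, 1, 0] = ⊥) (hc : Nat.card G = 4089470473293004800)
include h0 hb hc
theorem base : (m m0 h0).pst [2, 20380, 6320, 1, 0] = ⊥ := hb
omit hb hc in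
theorem ch2_ok : (m m0 h0).ChainOK ch2 [] := ((m m0 h0).chain_cons [0, 1, 2, 3, 4, 6, 7, 8, 5, 0] (Model.via _ (mR m0 h0) (fun R => Model.fixP R [] [[23], [24], [25], [26], [29], [31], [33], [35], [39]]) c4) (Model.via _ (mR m0 h0) (fun R => Model.growP R [[23], [24], [25], [26], [29], [31], [33], [35], [39]] [0, 1, 2, 3, 4, 6, 7, 8, 5, 0] 1 512) c5) ((m m0 h0).chain_cons [0, 1, 2, 3, 4, 5, 7, 6, 0] (Model.via _ (mR m0 h0) (fun R => Model.fixP R [1] [[23, 28, 31, 35, 38], [24, 26, 31, 38], [27], [29, 34, 39, 40], [30, 31, 38], [32, 35, 39, 40], [33, 38, 39, 40], [37, 38]]) c2) (Model.via _ (mR m0 h0) (fun R => Model.growP R [[23, 28, 31, 35, 38], [24, 26, 31, 38], [27], [29, 34, 39, 40], [30, 31, 38], [32, 35, 39, 40], [33, 38, 39, 40], [37, 38]] [0, 1, 2, 3, 4, 5, 7, 6, 0] 2 256) c3) ((m m0 h0).chain_cons [0] (Model.via _ (mR m0 h0) (fun R => Model.fixP R [2, 1] [[29, 34, 36, 37, 38, 39]]) c0) (Model.via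 _ (mR m0 h0) (fun R => Model.growP R [[29, 34, 36, 37, 38, 39]] [0] 3 2) c1) ((m m0 h0).chain_nil _))))
theorem pb2 : PBound G (2 ^ (0 + 1)) :=
  (m m0 h0).pbound C2 23 (k := 15600091832325) (K := 2) (e := 1) hc (lt_step_all (a := 212) (k := 26) (lt_step_all (a := 182) (k := 30) (lt_step_all (a := 136) (k := 46) (lt_step_all (a := 76) (k := 60) (lt_step_all (a := 32) (k := 44) (lt_step_all (a := 0) (k := 32) (lt_zero_all _) ((m m0 h0).rules_of (base m0 h0 hb hc) (Model.via _ (mR m0 h0) (fun R => rulesB R [2, 20380, 6320, 1, 0] (fun i => sh 23 (C2.L i)) (fun i => sh 23 (C2.R i)) 0 32) c6))) ((m m0 h0).rules_of (base m0 h0 hb hc) (Model.via _ (mR m0 h0) (fun R => rulesB R [2, 20380, 6320, 1, 0] (fun i => sh 23 (C2.L i)) (fun i => sh 23 (C2.R i)) 32 44) c7))) ((m m0 h0).rules_of (base m0 h0 hb hc) (Model.via _ (mR m0 h0) (fun R => rulesB R [2, 20380, 6320, 1, 0] (fun i => sh 23 (C2.L i)) (fun i => sh 23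 (C2.R i)) 76 60) c8))) ((m m0 h0).rules_of (base m0 h0 hb hc) (Model.via _ (mR m0 h0) (fun R => rulesB R [2, 20380, 6320, 1, 0] (fun i => sh 23 (C2.L i)) (fun i => sh 23 (C2.R i)) 136 46) c9))) ((m m0 h0).rules_of (base m0 h0 hb hc) (Model.via _ (mR m0 h0) (fun R => rulesB R [2, 20380, 6320, 1, 0] (fun i => sh 23 (C2.L i)) (fun i => sh 23 (C2.R i)) 182 30) c10))) ((m m0 h0).rules_of (base m0 h0 hb hc) (Model.via _ (mR m0 h0) (fun R => rulesB R [2, 20380, 6320, 1, 0] (fun i => sh 23 (C2.L i)) (fun i => sh 23 (C2.R i)) 212 26) c11))) (ch2_ok m0 h0) (by decide +kernel) tests2 (all_take_done (all_take_step (all_take_zero _ tests2) (allL_spec c12)) (by decide +kernel))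
    av2 FS2 YS2 rows2 (all_take_done (all_take_step (all_take_step (all_take_step (all_take_zero _ rows2) (allL_spec c13)) (allL_spec c14)) (allL_spec c15)) (by decide +kernel)) c16
omit hb hc in
theorem ch3_ok : (m m0 h0).ChainOK ch3 [] := ((m m0 h0).chain_cons [0, 1, 2, 3, 4, 1, 0, 3, 5, 4] (Model.via _ (mR m0 h0) (fun R => Model.fixP R [] [[45], [46], [47], [48], [49], [55]]) c23) (Model.via _ (mR m0 h0) (fun R => Model.growP R [[45], [46], [47], [48], [49], [55]] [0, 1, 2, 3, 4, 1, 0, 3, 5, 4] 0 243) c24) ((m m0 h0).chain_cons [0, 1, 2, 3, 4, 6, 7, 5, 0, 2] (Model.via _ (mR m0 h0) (fun R => Model.fixP R [0] [[45, 46, 49, 51, 51, 55, 56], [47, 49, 49, 51, 51, 55, 55], [48, 51, 56], [50, 55], [52, 55, 56, 56], [53, 56], [54], [57]]) c21) (Model.via _ (mR m0 h0) (fun R => Model.growP R [[45, 46, 49, 51, 51, 55, 56], [47, 49, 49, 51, 51, 55, 55], [48, 51, 56], [50, 55], [52, 55, 56, 56], [53, 56], [54],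 [57]] [0, 1, 2, 3, 4, 6, 7, 5, 0, 2] 1 243) c22) ((m m0 h0).chain_cons [0, 1, 0, 1] (Model.via _ (mR m0 h0) (fun R => Model.fixP R [1, 0] [[45, 46, 49, 50, 50, 51, 51, 53, 54, 54, 56, 56, 57], [48, 50, 51, 52, 52, 53, 54, 57, 57]]) c19) (Model.via _ (mR m0 h0) (fun R => Model.growP R [[45, 46, 49, 50, 50, 51, 51, 53, 54, 54, 56, 56, 57], [48, 50, 51, 52, 52, 53, 54, 57, 57]] [0, 1, 0, 1] 2 9) c20) ((m m0 h0).chain_cons [0, 0] (Model.via _ (mR m0 h0) (fun R => Model.fixP R [2, 1, 0] [[45, 46, 47, 47, 49, 49, 52, 53, 53, 55, 56]]) c17) (Model.via _ (mR m0 h0) (fun R => Model.growP R [[45, 46, 47, 47, 49, 49, 52, 53, 53, 55, 56]] [0, 0] 5 3) c18) ((m m0 h0).chain_nil _)))))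
theorem pb3 : PBound G (3 ^ (0 + 1)) :=
  (m m0 h0).pbound C3 45 (k := 2565020057600) (K := 2) (e := 1) hc (lt_step_all (a := 106) (k := 24) (lt_step_all (a := 72) (k := 34) (lt_step_all (a := 27) (k := 45) (lt_step_all (a := 0) (k := 27) (lt_zero_all _) ((m m0 h0).rules_of (base m0 h0 hb hc) (Model.via _ (mR m0 h0) (fun R => rulesB R [2, 20380, 6320, 1, 0] (fun i => sh 45 (C3.L i)) (fun i => sh 45 (C3.R i)) 0 27) c25))) ((m m0 h0).rules_of (base m0 h0 hb hc) (Model.via _ (mR m0 h0) (fun R => rulesB R [2, 20380, 6320, 1, 0] (fun i => sh 45 (C3.L i)) (fun i => sh 45 (C3.R i)) 27 45) c26))) ((m m0 h0).rules_of (base m0 h0 hb hc) (Model.via _ (mR m0 h0) (fun R => rulesB R [2, 20380, 6320, 1, 0] (fun i => sh 45 (C3.L i)) (fun i => sh 45 (C3.R i)) 72 34) c27))) ((m m0 h0).rules_of (base m0 h0 hb hc) (Model.via _ (mR m0 h0) (fun R => rulesB R [2, 20380, 6320, 1, 0] (fun i => sh 45 (C3.L i)) (fun i => sh 45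 (C3.R i)) 106 24) c28))) (ch3_ok m0 h0) (by decide +kernel) tests3 (all_take_done (all_take_step (all_take_step (all_take_step (all_take_step (all_take_zero _ tests3) (allL_spec c29)) (allL_spec c30)) (allL_spec c31)) (allL_spec c32)) (by decide +kernel))
    av3 FS3 YS3 rows3 (all_take_done (all_take_step (all_take_zero _ rows3) (allL_spec c33)) (by decide +kernel)) c34
omit hb hc in
theorem ch5_ok : (m m0 h0).ChainOK ch5 [] := ((m m0 h0).chain_cons [0, 1, 0, 1, 0, 1, 0, 1] (Model.via _ (mR m0 h0) (fun R => Model.fixP R [] [[61], [62]]) c35) (Model.via _ (mR m0 h0) (fun R => Model.growP R [[61], [62]] [0, 1, 0, 1, 0, 1, 0, 1] 1 25) c36) ((m m0 h0).chain_nil _))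
theorem pb5 : PBound G (5 ^ (0 + 1)) :=
  (m m0 h0).pbound C5 61 (k := 163578818931720192) (K := 2) (e := 1) hc (lt_step_all (a := 0) (k := 5) (lt_zero_all _) ((m m0 h0).rules_of (base m0 h0 hb hc) (Model.via _ (mR m0 h0) (fun R => rulesB R [2, 20380, 6320, 1, 0] (fun i => sh 61 (C5.L i)) (fun i => sh 61 (C5.R i)) 0 5) c37))) (ch5_ok m0 h0) (by decide +kernel) tests5 (all_take_done (all_take_step (all_take_zero _ tests5) (allL_spec c38)) (by decide +kernel))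
    av5 FS5 YS5 rows5 (all_take_done (all_take_step (all_take_zero _ rows5) (allL_spec c39)) (by decide +kernel)) c40
theorem bound (Γ : Type u) [Group Γ] [Finite Γ] (σ : Γ →* G) (hσ : Cfsg.IsStemExtension σ) : Nat.card σ.ker ∣ 1 :=
  card_ker_dvd (M := 23) (k := 18) (L := [2, 3, 5]) hc (by decide +kernel) (ex_bound (pb2 m0 h0 hb hc) (by decide) (ex_bound (pb3 m0 h0 hb hc) (by decide) (ex_bound (pb5 m0 h0 hb hc) (by decide) ex_bound_nil))) Γ σ hσ
end H0.QFi23
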