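import Cfsg.Agent.H0.QFi23.D
set_option maxRecDepth 100000
set_option Elab.async false
namespace H0.QFi23
open H0 BN 
theorem c0 : Model.fixP R [2, 1] [[29, 34, 36, 37, 38, 39]] = true := by decide +kernel
theorem c1 : Model.growP R [[29, 34, 36, 37, 38, 39]] [0] 3 2 = true := by decide +kernel
theorem c2 : Model.fixP R [1] [[23, 28, 31, 35, 38], [24, 26, 31, 38], [27], [29, 34, 39, 40], [30, 31, 38], [32, 35, 39, 40], [33, 38, 39, 40], [37, 38]] = true := by decide +kernel
theorem c3 : Model.growP R [[23, 28, 31, 35, 38], [24, 26, 31, 38], [27], [29, 34, 39, 40], [30, 31, 38], [32, 35, 39, 40], [33, 38, 39, 40], [37, 38]] [0, 1, 2, 3, 4, 5, 7, 6, 0] 2 256 = true := by decide +kernel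
theorem c4 : Model.fixP R [] [[23], [24], [25], [26], [29], [31], [33], [35], [39]] = true := by decide +kernel
theorem c5 : Model.growP R [[23], [24], [25], [26], [29], [31], [33], [35], [39]] [0, 1, 2, 3, 4, 6, 7, 8, 5, 0] 1 512 = true := by decide +kernel
theorem c6 : rulesB R [2, 20380, 6320, 1, 0] (fun i => sh 23 (C2.L i)) (fun i => sh 23 (C2.R i)) 0 32 = true := by decide +kernel
theorem c7 : rulesB R [2, 20380, 6320, 1, 0] (fun i => sh 23 (C2.L i)) (fun i => sh 23 (C2.R i)) 32 44 = true := by decide +kernel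
theorem c8 : rulesB R [2, 20380, 6320, 1, 0] (fun i => sh 23 (C2.L i)) (fun i => sh 23 (C2.R i)) 76 60 = true := by decide +kernel
theorem c9 : rulesB R [2, 20380, 6320, 1, 0] (fun i => sh 23 (C2.L i)) (fun i => sh 23 (C2.R i)) 136 46 = true := by decide +kernel
theorem c10 : rulesB R [2, 20380, 6320, 1, 0] (fun i => sh 23 (C2.L i)) (fun i => sh 23 (C2.R i)) 182 30 = true := by decide +kernel
theorem c11 : rulesB R [2, 20380, 6320, 1, 0] (fun i => sh 23 (C2.L i)) (fun i => sh 23 (C2.R i)) 212 26 = true := by decide +kernel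
theorem c12 : allL (Tail.chkT C2 (nat_lit 3950) (nat_lit 3)) ((tests2.drop 0).take 404) = true := by decide +kernel
theorem c13 : allL (Tail.rowChk C2 (nat_lit 3950) (nat_lit 3) (nat_lit 2) (tests2.map fun T => T.2.2.2) (FS2 ++ YS2.map fun Y => Y.1)) ((rows2.drop 0).take 66) = true := by decide +kernel
theorem c14 : allL (Tail.rowChk C2 (nat_lit 3950) (nat_lit 3) (nat_lit 2) (tests2.map fun T => T.2.2.2) (FS2 ++ YS2.map fun Y => Y.1)) ((rows2.drop 66).take 65) = true := by decide +kernel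
theorem c15 : allL (Tail.rowChk C2 (nat_lit 3950) (nat_lit 3) (nat_lit 2) (tests2.map fun T => T.2.2.2) (FS2 ++ YS2.map fun Y => Y.1)) ((rows2.drop 131).take 40) = true := by decide +kernel
theorem c16 : Tail.finChk C2 (nat_lit 3950) (nat_lit 3) (nat_lit 2) (nat_lit 2) (C2.p ^ 1) av2 (tests2.map fun T => T.2.2.2) FS2 YS2 rows2 = true := by decide +kernel
theorem c17 : Model.fixP R [2, 1, 0] [[45, 46, 47, 47, 49, 49, 52, 53, 53, 55, 56]] = true := by decide +kernel
theorem c18 : Model.growP R [[45, 46, 47, 47, 49, 49, 52, 53, 53, 55, 56]] [0, 0] 5 3 = true := by decide +kernel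
theorem c19 : Model.fixP R [1, 0] [[45, 46, 49, 50, 50, 51, 51, 53, 54, 54, 56, 56, 57], [48, 50, 51, 52, 52, 53, 54, 57, 57]] = true := by decide +kernel
theorem c20 : Model.growP R [[45, 46, 49, 50, 50, 51, 51, 53, 54, 54, 56, 56, 57], [48, 50, 51, 52, 52, 53, 54, 57, 57]] [0, 1, 0, 1] 2 9 = true := by decide +kernel
theorem c21 : Model.fixP R [0] [[45, 46, 49, 51, 51, 55, 56], [47, 49, 49, 51, 51, 55, 55], [48, 51, 56], [50, 55], [52, 55, 56, 56], [53, 56], [54], [57]] = true := by decide +kernel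
theorem c22 : Model.growP R [[45, 46, 49, 51, 51, 55, 56], [47, 49, 49, 51, 51, 55, 55], [48, 51, 56], [50, 55], [52, 55, 56, 56], [53, 56], [54], [57]] [0, 1, 2, 3, 4, 6, 7, 5, 0, 2] 1 243 = true := by decide +kernel
theorem c23 : Model.fixP R [] [[45], [46], [47], [48], [49], [55]] = true := by decide +kernel
theorem c24 : Model.growP R [[45], [46], [47], [48], [49], [55]] [0, 1, 2, 3, 4, 1, 0, 3, 5, 4] 0 243 = true := by decide +kernel
theorem c25 : rulesB R [2, 20380, 6320, 1, 0] (fun i => sh 45 (C3.L i)) (fun i => sh 45 (C3.R i)) 0 27 = true := by decide +kernel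
theorem c26 : rulesB R [2, 20380, 6320, 1, 0] (fun i => sh 45 (C3.L i)) (fun i => sh 45 (C3.R i)) 27 45 = true := by decide +kernel
theorem c27 : rulesB R [2, 20380, 6320, 1, 0] (fun i => sh 45 (C3.L i)) (fun i => sh 45 (C3.R i)) 72 34 = true := by decide +kernel
theorem c28 : rulesB R [2, 20380, 6320, 1, 0] (fun i => sh 45 (C3.L i)) (fun i => sh 45 (C3.R i)) 106 24 = true := by decide +kernel
theorem c29 : allL (Tail.chkT C3 (nat_lit 35514) (nat_lit 8)) ((tests3.drop 0).take 164) = true := by decide +kernel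
end H0.QFi23
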